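import Mathlib

/-! Every square matrix over a field is similar to its transpose. -/

namespace Cfsg.Agent.ClassicalElem

open Polynomial

universe u

/-- On `K[X]/(g)` there is a functional whose kernel contains no non-zero ideal. -/
theorem exists_frobenius_functional {K : Type u} [Field K] (g : K[X]) (hg : g ≠ 0) :
    ∃ τ : (K[X] ⧸ Submodule.span K[X] {g}) →ₗ[K] K,
      ∀ x, (∀ a : K[X], τ (a • x) = 0) → x = 0 := by
  classical
  have hg' : (g * C (g.leadingCoeff)⁻¹).Monic := monic_mul_leadingCoeff_inv hg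
  set f := g * C (g.leadingCoeff)⁻¹ with hf
  have hspan : Submodule.span K[X] {g} = Submodule.span K[X] {f} :=
    Ideal.span_singleton_eq_span_singleton.mpr
      ⟨(isUnit_C.mpr (isUnit_iff_ne_zero.mpr (inv_ne_zero (leadingCoeff_ne_zero.mpr hg)))).unit, rfl⟩
  let τ₀ : K[X] →ₗ[K] K :=
    { toFun := fun a => (a %ₘ f).coeff (f.natDegree - 1)
      map_add' := fun a b => by simp [add_modByMonic]
      map_smul' := fun c a => by simp [smul_modByMonic] }
  have hker : ∀ a ∈ (Submodule.span K[X] {g}).restrictScalars K, τ₀ a = 0 := by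
    intro a ha
    rw [Submodule.restrictScalars_mem, hspan, Submodule.mem_span_singleton] at ha
    obtain ⟨c, rfl⟩ := ha
    simp [τ₀, (modByMonic_eq_zero_iff_dvd hg').mpr (dvd_mul_left f c)]
  let τ : (K[X] ⧸ Submodule.span K[X] {g}) →ₗ[K] K :=
    { toFun := fun x => Quotient.liftOn' x τ₀ (fun a b hab => by
        rw [Submodule.quotientRel_def] at hab
        have := hker _ hab
        rwa [map_sub, sub_eq_zero] at this)
      map_add' := by
        rintro ⟨a⟩ ⟨b⟩
        exact map_add τ₀ a b
      map_smul' := by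
        rintro c ⟨a⟩
        exact map_smul τ₀ c a }
  refine ⟨τ, fun x hx => ?_⟩
  obtain ⟨a, rfl⟩ := Submodule.mkQ_surjective _ x
  by_contra hne
  set r := a %ₘ f with hr
  have hr0 : r ≠ 0 := by
    intro h
    apply hne
    simp only [Submodule.mkQ_apply, Submodule.Quotient.mk_eq_zero, hspan,
      Submodule.mem_span_singleton]
    obtain ⟨c, hc⟩ := (modByMonic_eq_zero_iff_dvd hg').mp h
    exact ⟨c, by rw [smul_eq_mul, hc, mul_comm]⟩
  have hlt : r.natDegree < f.natDegree :=
    natDegree_modByMonic_lt a hg' (fun h1 => hr0 (by rw [hr, h1, modByMonic_one]))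
  set k := f.natDegree - 1 - r.natDegree with hk
  have hXr : (X ^ k * r) %ₘ f = X ^ k * r := by
    rw [modByMonic_eq_self_iff hg', degree_mul, degree_X_pow, degree_eq_natDegree hr0,
      degree_eq_natDegree hg'.ne_zero, ← Nat.cast_add]
    exact_mod_cast (by omega : k + r.natDegree < f.natDegree)
  have h := hx (X ^ k)
  change τ₀ (X ^ k * a) = 0 at h
  have h2 : (X ^ k * a) %ₘ f = X ^ k * r := by
    rw [← hXr]
    apply modByMonic_eq_of_dvd_sub hg'
    rw [← mul_sub]
    exact dvd_mul_of_dvd_right
      ⟨a /ₘ f, by rw [sub_eq_iff_eq_add, add_comm, modByMonic_add_div]⟩ _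
  simp only [τ₀, LinearMap.coe_mk, AddHom.coe_mk, h2] at h
  rw [show f.natDegree - 1 = r.natDegree + k by omega, coeff_X_pow_mul, coeff_natDegree,
    leadingCoeff_eq_zero] at h
  exact hr0 h

/-- Every endomorphism of a finite-dimensional space is self-adjoint for some non-degenerate form. -/
theorem exists_selfAdjoint_form {K : Type u} [Field K] {V : Type u} [AddCommGroup V] [Module K V]
    [FiniteDimensional K V] (φ : V →ₗ[K] V) :
    ∃ B : V →ₗ[K] V →ₗ[K] K, (∀ u, (∀ v, B u v = 0) → u = 0) ∧ ∀ u v, B (φ u) v = B u (φ v) := by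
  classical
  obtain ⟨ι, hι, p, hp, e, ⟨E⟩⟩ := Module.equiv_directSum_of_isTorsion
    (R := K[X]) (M := Module.AEval' φ) (Module.AEval.isTorsion_of_finiteDimensional K V φ)
  choose τ hτ using fun i => exists_frobenius_functional (p i ^ e i) (pow_ne_zero _ (hp i).ne_zero)
  let mulQ : ∀ i, (K[X] ⧸ Submodule.span K[X] {p i ^ e i}) →ₗ[K]
      (K[X] ⧸ Submodule.span K[X] {p i ^ e i}) →ₗ[K] K := fun i =>
    (LinearMap.mul K (K[X] ⧸ Ideal.span {p i ^ e i})).compr₂ (τ i)
  let T : V →ₗ[K] ∀ i, K[X] ⧸ Submodule.span K[X] {p i ^ e i} :=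
    LinearMap.pi fun i =>
      ((DirectSum.component K[X] ι _ i).comp E.toLinearMap).restrictScalars K ∘ₗ
        (Module.AEval'.of φ).toLinearMap
  let B : V →ₗ[K] V →ₗ[K] K :=
    ∑ i, (mulQ i).compl₁₂ ((LinearMap.proj i).comp T) ((LinearMap.proj i).comp T)
  have hB : ∀ u v, B u v = ∑ i, τ i ((Submodule.Quotient.mk 1 : K[X] ⧸ Ideal.span {p i ^ e i}) * (T u i) * (T v i)) := by
    intro u v
    simp only [B, LinearMap.sum_apply, LinearMap.compl₁₂_apply, LinearMap.comp_apply, LinearMap.proj_apply]
    refine Finset.sum_congr rfl fun i _ => ?_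
    change τ i (_ * _) = _
    congr 1
    exact (congrArg (· * T v i) (one_mul (T u i))).symm
  have hTX : ∀ u i, T (φ u) i = (X : K[X]) • T u i := by
    intro u i
    change (E (Module.AEval'.of φ (φ u))) i = (X : K[X]) • (E (Module.AEval'.of φ u)) i
    rw [← Module.AEval'.X_smul_of, map_smul, DirectSum.smul_apply]
  refine ⟨B, ?_, ?_⟩
  · intro u hu
    have h0 : ∀ i, T u i = 0 := by
      intro i
      apply hτ i
      intro a
      obtain ⟨v, hv⟩ : ∃ v : V, E (Module.AEval'.of φ v) = DirectSum.of _ i (Submodule.Quotient.mk a) :=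
        ⟨(Module.AEval'.of φ).symm (E.symm (DirectSum.of _ i (Submodule.Quotient.mk a))), by simp⟩
      have hTi : T v i = Submodule.Quotient.mk a := by
        change (E (Module.AEval'.of φ v)) i = _
        rw [hv, DirectSum.of_eq_same]
      have hTj : ∀ j, j ≠ i → T v j = 0 := by
        intro j hj
        change (E (Module.AEval'.of φ v)) j = _
        rw [hv, DirectSum.of_eq_of_ne _ _ _ hj]
      have := hu v
      rw [hB, Finset.sum_eq_single i (fun j _ hj => by rw [hTj j hj, mul_zero, map_zero])
        (by simp)] at this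
      rw [hTi] at this
      rw [show a • T u i = (Submodule.Quotient.mk 1 : K[X] ⧸ Ideal.span {p i ^ e i}) * (T u i) *
        (Submodule.Quotient.mk a : K[X] ⧸ Ideal.span {p i ^ e i}) from ?_]
      · exact this
      · obtain ⟨b, hb⟩ := Submodule.mkQ_surjective _ (T u i)
        rw [← hb]
        exact congrArg Submodule.Quotient.mk (show a * b = 1 * b * a by ring)
    apply (Module.AEval'.of φ).injective
    apply E.injective
    rw [map_zero, map_zero]
    exact DFinsupp.ext h0
  · intro u v
    rw [hB, hB]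
    refine Finset.sum_congr rfl fun i _ => congrArg (τ i) ?_
    rw [hTX, hTX]
    obtain ⟨b, hb⟩ := Submodule.mkQ_surjective _ (T u i)
    obtain ⟨c, hc⟩ := Submodule.mkQ_surjective _ (T v i)
    rw [← hb, ← hc]
    exact congrArg Submodule.Quotient.mk (show (1 : K[X]) * (X * b) * c = 1 * b * (X * c) by ring)

/-- Every square matrix over a field is similar to its transpose. -/
theorem isConj_transpose {K : Type u} [Field K] {n : Type*} [Fintype n] [DecidableEq n]
    (A : Matrix n n K) : IsConj A A.transpose := by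
  classical
  obtain ⟨m, ⟨e⟩⟩ : ∃ m, Nonempty (n ≃ Fin m) := ⟨_, ⟨Fintype.equivFin n⟩⟩
  let R : Matrix n n K ≃* Matrix (Fin m) (Fin m) K := (Matrix.reindexAlgEquiv K K e).toMulEquiv
  have key : IsConj (R A) (R A).transpose := by
    obtain ⟨B, hB1, hB2⟩ := exists_selfAdjoint_form (Matrix.toLin' (R A))
    set S := LinearMap.toMatrix₂' K B with hS
    have hSB : Matrix.toLinearMap₂' K S = B := Matrix.toLinearMap₂'_toMatrix' B
    have hcomm : (R A).transpose * S = S * R A := by
      ext i j
      have := hB2 (Pi.single i 1) (Pi.single j 1)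
      rw [← hSB] at this
      simp only [Matrix.toLinearMap₂'_apply', Matrix.toLin'_apply, Matrix.mulVec_single_one] at this
      simp only [Matrix.mul_apply, Matrix.transpose_apply]
      simpa [dotProduct, Matrix.mulVec, Pi.single_apply] using this
    have hdet : IsUnit S.det := by
      rw [isUnit_iff_ne_zero]
      intro h0
      obtain ⟨v, hv, hv0⟩ := Matrix.exists_vecMul_eq_zero_iff.mpr h0
      refine hv (hB1 v fun w => ?_)
      rw [← hSB, Matrix.toLinearMap₂'_apply', Matrix.dotProduct_mulVec, hv0, zero_dotProduct]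
    exact ⟨((Matrix.isUnit_iff_isUnit_det S).mpr hdet).unit, by
      simpa [SemiconjBy] using hcomm.symm⟩
  have := R.symm.toMonoidHom.map_isConj key
  have hT : R.symm (R A).transpose = A.transpose := by
    ext i j; simp [R]
  simpa [hT] using this

end Cfsg.Agent.ClassicalElem
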